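import Mathlib

/-!
# S4543, task T5, second part: a group generated by `q`, `g` with `⟨q, q^g⟩ = D8` normal
-/

set_option autoImplicit false
set_option linter.unusedSectionVars false

namespace Cfsg.Agent.H547.Two

open Subgroup

section
variable {D : Type*} [Group D] [Finite D]

/-- the elements of `⟨q, q'⟩` -/
theorem mem_clo {p q t : D} (hp : p * p = 1) (hq : q * q = 1) (ht : t * t = 1)
    (hpq : p * q = q * p) (hpt : p * t = t * p) (htq : t * q = p * (q * t)) {x : D}
    (hx : x ∈ closure ({q, t} : Set D)) :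
    ∃ i j k : Fin 2, x = p ^ (i : ℕ) * q ^ (j : ℕ) * t ^ (k : ℕ) := by
  have red : ∀ i j k : ℕ, ∃ i' j' k' : Fin 2,
      p ^ i * q ^ j * t ^ k = p ^ (i' : ℕ) * q ^ (j' : ℕ) * t ^ (k' : ℕ) := by
    intro i j k
    refine ⟨⟨i % 2, Nat.mod_lt _ (by norm_num)⟩, ⟨j % 2, Nat.mod_lt _ (by norm_num)⟩,
      ⟨k % 2, Nat.mod_lt _ (by norm_num)⟩, ?_⟩
    rw [pow_eq_pow_mod i (by rw [pow_two]; exact hp : p ^ 2 = 1),
      pow_eq_pow_mod j (by rw [pow_two]; exact hq : q ^ 2 = 1),
      pow_eq_pow_mod k (by rw [pow_two]; exact ht : t ^ 2 = 1)]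
  have hqi : q⁻¹ = q := inv_eq_of_mul_eq_one_right hq
  have hti : t⁻¹ = t := inv_eq_of_mul_eq_one_right ht
  have h1 : ∀ i j k : ℕ, q * (p ^ i * q ^ j * t ^ k) = p ^ i * q ^ (j + 1) * t ^ k := by
    intro i j k
    have : Commute q (p ^ i) := (show Commute q p from hpq.symm).pow_right i
    rw [← mul_assoc, ← mul_assoc, this.eq, mul_assoc (p ^ i), ← pow_succ']
  have h2 : ∀ j : ℕ, t * q ^ j = p ^ j * q ^ j * t := by
    intro j
    induction j with
    | zero => simp
    | succ j ih =>
      have h3 : Commute (q ^ j) p := (show Commute q p from hpq.symm).pow_left j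
      calc t * q ^ (j + 1) = (t * q ^ j) * q := by rw [pow_succ, mul_assoc]
        _ = p ^ j * q ^ j * (t * q) := by rw [ih, mul_assoc]
        _ = p ^ j * (q ^ j * p) * (q * t) := by rw [htq]; simp only [mul_assoc]
        _ = p ^ j * (p * q ^ j) * (q * t) := by rw [h3.eq]
        _ = _ := by rw [pow_succ p, pow_succ q]; simp only [mul_assoc]
  have h4 : ∀ i j k : ℕ, t * (p ^ i * q ^ j * t ^ k) = p ^ (i + j) * q ^ j * t ^ (k + 1) := by
    intro i j k
    have h3 : Commute t (p ^ i) := (show Commute t p from hpt.symm).pow_right i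
    calc t * (p ^ i * q ^ j * t ^ k) = (t * p ^ i) * q ^ j * t ^ k := by simp only [mul_assoc]
      _ = p ^ i * (t * q ^ j) * t ^ k := by rw [h3.eq]; simp only [mul_assoc]
      _ = _ := by rw [h2, pow_add, pow_succ' t]; simp only [mul_assoc]
  induction hx using Subgroup.closure_induction_left with
  | one => exact ⟨0, 0, 0, by simp⟩
  | mul_left a ha y hy ih =>
    obtain ⟨i, j, k, rfl⟩ := ih
    rcases ha with rfl | ha
    · rw [h1]; exact red _ _ _
    · rw [Set.mem_singleton_iff] at ha; subst ha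
      rw [h4]; exact red _ _ _
  | inv_mul_cancel a ha y hy ih =>
    obtain ⟨i, j, k, rfl⟩ := ih
    rcases ha with rfl | ha
    · rw [hqi, h1]; exact red _ _ _
    · rw [Set.mem_singleton_iff] at ha; subst ha
      rw [hti, h4]; exact red _ _ _

theorem card_clo {p q t : D} (hp : p * p = 1) (hq : q * q = 1) (ht : t * t = 1)
    (hpq : p * q = q * p) (hpt : p * t = t * p) (htq : t * q = p * (q * t)) :
    Nat.card (closure ({q, t} : Set D)) ≤ 8 := by
  have h1 : ((closure ({q, t} : Set D) : Subgroup D) : Set D) ⊆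
      Set.range (fun a : Fin 2 × Fin 2 × Fin 2 =>
        p ^ (a.1 : ℕ) * q ^ (a.2.1 : ℕ) * t ^ (a.2.2 : ℕ)) := by
    intro x hx
    obtain ⟨i, j, k, h⟩ := mem_clo hp hq ht hpq hpt htq hx
    exact ⟨(i, j, k), h.symm⟩
  have h2 : Nat.card (closure ({q, t} : Set D)) ≤ (Set.range (fun a : Fin 2 × Fin 2 × Fin 2 =>
        p ^ (a.1 : ℕ) * q ^ (a.2.1 : ℕ) * t ^ (a.2.2 : ℕ))).ncard :=
    Set.ncard_le_ncard h1 (Set.finite_range _)
  refine h2.trans ?_
  rw [← Set.image_univ]
  refine (Set.ncard_image_le Set.finite_univ).trans ?_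
  rw [Set.ncard_univ, Nat.card_eq_fintype_card]
  decide

/-- `g⁴ ∉ ⟨q, q^g⟩` -/
theorem pow_four_not_mem (h64 : Nat.card D = 64) {p q g : D}
    (hgen : closure ({q, g} : Set D) = ⊤) (hp : p * p = 1) (hq : q * q = 1)
    (hpc : p ∈ center D) (htq : g * q * g⁻¹ * q = p * (q * (g * q * g⁻¹)))
    (h2 : g * (g * q * g⁻¹) * g⁻¹ ∈ closure ({q, g * q * g⁻¹} : Set D)) :
    g ^ 4 ∉ closure ({q, g * q * g⁻¹} : Set D) := by
  intro h4
  set t := g * q * g⁻¹ with ht
  set K := closure ({q, t} : Set D) with hK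
  have htt : t * t = 1 := by
    calc t * t = g * (q * q) * g⁻¹ := by rw [ht]; group
      _ = 1 := by rw [hq]; group
  have hc : Nat.card K ≤ 8 := card_clo hp hq htt ((mem_center_iff.1 hpc q).symm)
    ((mem_center_iff.1 hpc t).symm) htq
  have hqK : q ∈ K := subset_closure (by simp)
  have htK : t ∈ K := subset_closure (by simp)
  have hgN : g ∈ normalizer (K : Set D) := by
    apply mem_normalizer_fintype
    intro n hn
    have h5 : K ≤ K.comap (MulAut.conj g).toMonoidHom := by
      rw [hK, closure_le]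
      rintro x (rfl | hx)
      · simpa [MulAut.conj_apply] using htK
      · rw [Set.mem_singleton_iff] at hx; subst hx
        simpa [MulAut.conj_apply] using h2
    simpa [MulAut.conj_apply] using h5 hn
  have hN : normalizer (K : Set D) = ⊤ := by
    rw [eq_top_iff, ← hgen, closure_le]
    rintro x (rfl | hx)
    · exact le_normalizer hqK
    · rw [Set.mem_singleton_iff] at hx; subst hx
      exact hgN
  have hKn : K.Normal := normalizer_eq_top_iff.1 hN
  -- the quotient is generated by the image of `g`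
  have hz : (zpowers (QuotientGroup.mk' K g)) = ⊤ := by
    have h6 : (closure ({q, g} : Set D)).map (QuotientGroup.mk' K) = ⊤ := by
      rw [hgen, ← MonoidHom.range_eq_map]
      exact MonoidHom.range_eq_top.2 (QuotientGroup.mk'_surjective K)
    rw [eq_top_iff, ← h6, MonoidHom.map_closure, closure_le]
    rintro x ⟨y, hy, rfl⟩
    rcases hy with rfl | hy
    · have : QuotientGroup.mk' K y = 1 := (QuotientGroup.eq_one_iff y).2 hqK
      rw [this]; exact one_mem _
    · rw [Set.mem_singleton_iff] at hy; subst hy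
      exact mem_zpowers _
  have h7 : Nat.card (D ⧸ K) ≤ 4 := by
    have h8 : Nat.card (zpowers (QuotientGroup.mk' K g)) = Nat.card (D ⧸ K) := by
      rw [hz]; exact Nat.card_congr Subgroup.topEquiv.toEquiv
    rw [← h8, Nat.card_zpowers]
    apply orderOf_le_of_pow_eq_one (by norm_num)
    rw [← map_pow]
    exact (QuotientGroup.eq_one_iff _).2 h4
  have h9 := Subgroup.card_eq_card_quotient_mul_card_subgroup K
  rw [h64] at h9
  have : Nat.card (D ⧸ K) * Nat.card K ≤ 4 * 8 := Nat.mul_le_mul h7 hc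
  omega

end

end Cfsg.Agent.H547.Two
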