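import Cfsg.Agent.H547.Two.T5a
import Cfsg.Agent.H547.Two.T5b
import Cfsg.Agent.H538.Two.Partner

/-!
# S4543, task T5 (`|Q| = 16` abelian)
-/

set_option autoImplicit false
set_option linter.unusedSectionVars false

namespace Cfsg.Agent.H547.Two

open Subgroup Cfsg.Agent.H617.Two

section
variable {D : Type*} [Group D] [Finite D] {Q R : Subgroup D} {y p q : D}

theorem yN (h : Str Q R y p q) (hs : p * p = 1) : y ∈ normalizer (Q : Set D) := by
  have hyp : y * p * y⁻¹ = p := by rw [h.yp, hs, one_mul]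
  apply mem_normalizer_fintype
  intro n hn
  obtain ⟨r, hr, h1⟩ := h.cover n hn
  have hry := h.RQ (h.yR r hr)
  rcases h1 with rfl | rfl | rfl | rfl
  · exact hry
  · have : y * (p * r) * y⁻¹ = (y * p * y⁻¹) * (y * r * y⁻¹) := by group
    rw [this, hyp]
    exact Q.mul_mem h.pQ hry
  · have : y * (q * r) * y⁻¹ = (y * q * y⁻¹) * (y * r * y⁻¹) := by group
    rw [this, h.yq]
    exact Q.mul_mem (Q.mul_mem h.pQ h.qQ) hry
  · have : y * (p * q * r) * y⁻¹ = (y * p * y⁻¹) * (y * q * y⁻¹) * (y * r * y⁻¹) := by group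
    rw [this, hyp, h.yq]
    exact Q.mul_mem (Q.mul_mem h.pQ (Q.mul_mem h.pQ h.qQ)) hry

theorem conjN (hG : Nat.card D = 64) (hN : Nat.card (normalizer (Q : Set D)) = 32) {g n : D}
    (hn : n ∈ normalizer (Q : Set D)) : g * n * g⁻¹ ∈ normalizer (Q : Set D) := by
  rw [idxN hG hN, idxN hG hN, inv_mem_iff]
  simp [hn]

/-- elements of `N - Q` act on `Q` as `y` does -/
theorem act_eq (h : Str Q R y p q) (hQ : Nat.card Q = 16)
    (hN : Nat.card (normalizer (Q : Set D)) = 32) (hs : p * p = 1) {n x : D}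
    (hn : n ∈ normalizer (Q : Set D)) (hnQ : n ∉ Q) (hx : x ∈ Q) :
    n * x * n⁻¹ = y * x * y⁻¹ := by
  have hy := yN h hs
  have h1 : y⁻¹ * n ∈ Q := by
    rw [idxQ hQ hN (inv_mem hy) hn, inv_mem_iff]
    have := h.yQ
    tauto
  obtain ⟨w, hw, rfl⟩ : ∃ w ∈ Q, n = y * w := ⟨_, h1, by group⟩
  have h2 : w * x * w⁻¹ = x := by
    rw [commQ h hQ hs hw hx]; group
  calc y * w * x * (y * w)⁻¹ = y * (w * x * w⁻¹) * y⁻¹ := by group
    _ = _ := by rw [h2]

/-- (A1) -/
theorem memA1 (h : Str Q R y p q) (hG : Nat.card D = 64) (hQ : Nat.card Q = 16)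
    (hN : Nat.card (normalizer (Q : Set D)) = 32) (hs : p * p = 1) {g x : D}
    (hg : g ∉ normalizer (Q : Set D)) (hx : x ∈ Q) (hx' : g⁻¹ * x * g ∈ Q) :
    y * x * y⁻¹ = x := by
  have h1 : ∃ c ∈ Q, g * c * g⁻¹ ∉ Q := by
    by_contra! hcon
    exact hg (mem_normalizer_fintype hcon)
  obtain ⟨c, hc, hc'⟩ := h1
  rw [← act_eq h hQ hN hs (conjN hG hN (le_normalizer hc)) hc' hx]
  have h2 : c * (g⁻¹ * x * g) = (g⁻¹ * x * g) * c := commQ h hQ hs hc hx'
  calc g * c * g⁻¹ * x * (g * c * g⁻¹)⁻¹ = g * (c * (g⁻¹ * x * g)) * c⁻¹ * g⁻¹ := by group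
    _ = x := by rw [h2]; group

theorem q_not (h : Str Q R y p q) : ¬ (q ∈ R ∨ p * q ∈ R) := by
  have := h.qR
  have := h.pqR
  tauto

/-- (A2) -/
theorem memA2 (h : Str Q R y p q) (hG : Nat.card D = 64) (hQ : Nat.card Q = 16)
    (hN : Nat.card (normalizer (Q : Set D)) = 32) (hs : p * p = 1) {g x : D}
    (hg : g ∉ normalizer (Q : Set D)) (hx : x ∈ Q) (hx' : x ∈ R ∨ p * x ∈ R) :
    g⁻¹ * x * g ∈ Q := by
  by_contra hcon
  have hxN : g⁻¹ * x * g ∈ normalizer (Q : Set D) := by
    have := conjN hG hN (g := g⁻¹) (le_normalizer hx)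
    rwa [inv_inv] at this
  have hqN : g⁻¹ * q * g ∈ normalizer (Q : Set D) := by
    have := conjN hG hN (g := g⁻¹) (le_normalizer h.qQ)
    rwa [inv_inv] at this
  have hqQ : g⁻¹ * q * g ∉ Q := fun h1 =>
    q_not h (mem_of_comm h hs h.qQ (memA1 h hG hQ hN hs hg h.qQ h1))
  have h2 : (g⁻¹ * q * g) * (g⁻¹ * x * g) ∈ Q := by
    rw [idxQ hQ hN hqN hxN]; tauto
  have h3 : g⁻¹ * (q * x) * g ∈ Q := by
    have : (g⁻¹ * q * g) * (g⁻¹ * x * g) = g⁻¹ * (q * x) * g := by group
    rwa [this] at h2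
  exact not_mem_of h hs hx' (mem_of_comm h hs (Q.mul_mem h.qQ hx)
    (memA1 h hG hQ hN hs hg (Q.mul_mem h.qQ hx) h3))

theorem exists_not_mem (hG : Nat.card D = 64)
    (hN : Nat.card (normalizer (Q : Set D)) = 32) : ∃ g : D, g ∉ normalizer (Q : Set D) := by
  by_contra! hcon
  have : normalizer (Q : Set D) = ⊤ := eq_top_iff.2 fun x _ => hcon x
  rw [this, Subgroup.card_top] at hN
  omega

/-- (A3) -/
theorem memA3 (h : Str Q R y p q) (hG : Nat.card D = 64) (hQ : Nat.card Q = 16)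
    (hN : Nat.card (normalizer (Q : Set D)) = 32) (hs : p * p = 1) {x : D}
    (hx : x ∈ Q) (hx' : x ∈ R ∨ p * x ∈ R) : y * x * y⁻¹ = x := by
  obtain ⟨g, hg⟩ := exists_not_mem hG hN
  exact memA1 h hG hQ hN hs hg hx (memA2 h hG hQ hN hs hg hx hx')

/-- the centre of `N_D(Q)` as a subgroup of `D` -/
def W (Q : Subgroup D) : Subgroup D :=
  normalizer (Q : Set D) ⊓ centralizer ((normalizer (Q : Set D) : Subgroup D) : Set D)

theorem mem_W (h : Str Q R y p q) (hG : Nat.card D = 64) (hQ : Nat.card Q = 16)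
    (hN : Nat.card (normalizer (Q : Set D)) = 32) (hs : p * p = 1) {x : D} :
    x ∈ W Q ↔ x ∈ Q ∧ (x ∈ R ∨ p * x ∈ R) := by
  have hy := yN h hs
  unfold W
  rw [mem_inf, mem_centralizer_iff]
  constructor
  · rintro ⟨h1, h2⟩
    have h3 : x ∈ Q := by
      by_contra hcon
      have h4 := act_eq h hQ hN hs h1 hcon h.qQ
      rw [h.yq] at h4
      have h5 := h2 q (le_normalizer h.qQ)
      rw [← h5] at h4
      have h6 : q = p * q := by rw [← h4]; group
      have h7 : p = 1 := by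
        have : 1 * q = p * q := by rw [one_mul]; exact h6
        exact (mul_right_cancel this).symm
      exact h.pR (h7 ▸ R.one_mem)
    refine ⟨h3, mem_of_comm h hs h3 ?_⟩
    rw [h2 y hy]; group
  · rintro ⟨h1, h2⟩
    refine ⟨le_normalizer h1, fun n hn => ?_⟩
    by_cases hnQ : n ∈ Q
    · exact commQ h hQ hs hnQ h1
    · have h3 := act_eq h hQ hN hs hn hnQ h1
      rw [memA3 h hG hQ hN hs h1 h2] at h3
      calc n * x = (n * x * n⁻¹) * n := by group
        _ = _ := by rw [h3]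

theorem W_normal (hG : Nat.card D = 64) (hN : Nat.card (normalizer (Q : Set D)) = 32) :
    (W Q).Normal := by
  have h1 : (normalizer (Q : Set D)).Normal := ⟨fun n hn g => conjN hG hN hn⟩
  unfold W
  infer_instance

theorem W_index (h : Str Q R y p q) (hG : Nat.card D = 64) (hQ : Nat.card Q = 16)
    (hN : Nat.card (normalizer (Q : Set D)) = 32) (hs : p * p = 1) : (W Q).index = 8 := by
  have hpq : p * q = q * p := by have := h.comm; rwa [hs, one_mul] at this
  have hle : W Q ≤ Q := fun x hx => ((mem_W h hG hQ hN hs).1 hx).1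
  have h1 : ((W Q).subgroupOf Q).index = 2 := by
    rw [Subgroup.index_eq_two_iff]
    refine ⟨⟨q, h.qQ⟩, fun b => ?_⟩
    have hb := b.2
    have h2 : ∀ x : Q, x ∈ (W Q).subgroupOf Q ↔ ((x : D) ∈ R ∨ p * (x : D) ∈ R) := by
      intro x
      rw [mem_subgroupOf, mem_W h hG hQ hN hs]
      exact ⟨fun a => a.2, fun a => ⟨x.2, a⟩⟩
    rw [h2, h2]
    have h3 : ((b * (⟨q, h.qQ⟩ : Q) : Q) : D) = q * (b : D) := commQ h hQ hs hb h.qQ
    rw [h3]
    by_cases h4 : ((b : D) ∈ R ∨ p * (b : D) ∈ R)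
    · exact Or.inr ⟨h4, not_mem_of h hs h4⟩
    · refine Or.inl ⟨?_, h4⟩
      obtain ⟨r, hr, h5⟩ := h.cover b hb
      rcases h5 with h5 | h5 | h5 | h5
      · exact absurd (Or.inl (h5 ▸ hr)) h4
      · refine absurd (Or.inr ?_) h4
        rw [h5, ← mul_assoc, hs, one_mul]; exact hr
      · left
        rw [h5, ← mul_assoc, h.qq, hs, one_mul]; exact hr
      · right
        have : p * (q * (b : D)) = r := by
          rw [h5]
          calc p * (q * (p * q * r)) = (p * (q * p)) * q * r := by group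
            _ = (p * (p * q)) * q * r := by rw [hpq]
            _ = (p * p) * (q * q) * r := by group
            _ = r := by rw [h.qq, hs]; group
        rw [this]; exact hr
  have h2 := Subgroup.card_mul_index ((W Q).subgroupOf Q)
  have h3 : Nat.card ((W Q).subgroupOf Q) = Nat.card (W Q) :=
    Nat.card_congr (Subgroup.subgroupOfEquivOfLe hle).toEquiv
  rw [h1, h3, hQ] at h2
  have h4 := Subgroup.card_mul_index (W Q)
  rw [hG] at h4
  have h5 : Nat.card (W Q) = 8 := by omega
  rw [h5] at h4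
  omega

/-- what T0 needs -/
theorem for_T0 (h : Str Q R y p q) (hG : Nat.card D = 64) (hQ : Nat.card Q = 16)
    (hN : Nat.card (normalizer (Q : Set D)) = 32) (hs : p * p = 1) :
    ∃ g : D, g * q * g⁻¹ * q⁻¹ ∉ W Q := by
  obtain ⟨g, hg⟩ := exists_not_mem hG hN
  refine ⟨g⁻¹, fun h1 => ?_⟩
  have h2 := ((mem_W h hG hQ hN hs).1 h1).1
  have h3 : g⁻¹ * q * g ∈ Q := by
    have := Q.mul_mem h2 h.qQ
    rw [inv_inv] at this
    simpa using this
  exact q_not h (mem_of_comm h hs h.qQ (memA1 h hG hQ hN hs hg h.qQ h3))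

/-- T5, once `D = ⟨q, g⟩` -/
theorem T5core (h : Str Q R y p q) (hG : Good D) (hQ : Nat.card Q = 16)
    (hN : Nat.card (normalizer (Q : Set D)) = 32) (hs : p * p = 1) {g : D}
    (hgen : closure ({q, g} : Set D) = ⊤) : False := by
  have h64 := hG.card
  have hpq : p * q = q * p := by have := h.comm; rwa [hs, one_mul] at this
  have hqq : q * q = 1 := by rw [h.qq, hs]
  have hp1 : p ≠ 1 := fun h0 => h.pR (h0 ▸ R.one_mem)
  have hWN := W_normal (Q := Q) h64 hN
  have hQN : ∀ {x : D}, x ∈ Q → x ∈ normalizer (Q : Set D) := fun hx => le_normalizer hx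
  have hgN : g ∉ normalizer (Q : Set D) := by
    intro h0
    obtain ⟨x, hx⟩ := exists_not_mem h64 hN
    apply hx
    have h1 : closure ({q, g} : Set D) ≤ normalizer (Q : Set D) := by
      rw [closure_le]
      rintro z (rfl | hz)
      · exact hQN h.qQ
      · rw [Set.mem_singleton_iff] at hz; subst hz; exact h0
    exact h1 (by rw [hgen]; trivial)
  have hgi : g⁻¹ ∉ normalizer (Q : Set D) := fun h0 => hgN ((inv_mem_iff).1 h0)
  have hggN : g * g ∈ normalizer (Q : Set D) := by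
    rw [idxN h64 hN]
  -- elements of Q conjugated into Q by g lie in W
  have hgQ : ∀ x ∈ Q, g * x * g⁻¹ ∈ Q → x ∈ W Q := by
    intro x hx hx'
    rw [mem_W h h64 hQ hN hs]
    refine ⟨hx, mem_of_comm h hs hx (memA1 h h64 hQ hN hs hgi hx ?_)⟩
    rwa [inv_inv]
  have hpW : p ∈ W Q := (mem_W h h64 hQ hN hs).2 ⟨h.pQ, Or.inr (by rw [hs]; exact R.one_mem)⟩
  have hRW : ∀ r ∈ R, r ∈ W Q := fun r hr =>
    (mem_W h h64 hQ hN hs).2 ⟨h.RQ hr, Or.inl hr⟩
  have hqW : q ∉ W Q := fun h0 => q_not h ((mem_W h h64 hQ hN hs).1 h0).2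
  have hWc : ∀ w ∈ W Q, ∀ n ∈ normalizer (Q : Set D), n * w = w * n := by
    intro w hw n hn
    exact (mem_centralizer_iff.1 (mem_inf.1 hw).2) n hn
  obtain ⟨t, ht⟩ : ∃ t, t = g * q * g⁻¹ := ⟨_, rfl⟩
  have htN : t ∈ normalizer (Q : Set D) := ht ▸ conjN h64 hN (hQN h.qQ)
  have htQ : t ∉ Q := fun h0 => hqW (hgQ q h.qQ (ht ▸ h0))
  have htt : t * t = 1 := by
    calc t * t = g * (q * q) * g⁻¹ := by rw [ht]; group
      _ = 1 := by rw [hqq]; group
  have hti : t⁻¹ = t := inv_eq_of_mul_eq_one_right htt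
  have hqi : q⁻¹ = q := inv_eq_of_mul_eq_one_right hqq
  have hpi : p⁻¹ = p := inv_eq_of_mul_eq_one_right hs
  have htq : t * q * t⁻¹ = p * q := by rw [act_eq h hQ hN hs htN htQ h.qQ, h.yq]
  have htq' : t * q = p * (q * t) := by
    calc t * q = (t * q * t⁻¹) * t := by group
      _ = _ := by rw [htq, mul_assoc]
  have hpt : p * t = t * p := (hWc p hpW t htN).symm
  -- conjugation of `q` by elements of `N`
  have hNq : ∀ n ∈ normalizer (Q : Set D), n * q * n⁻¹ = q ∨ n * q * n⁻¹ = p * q := by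
    intro n hn
    by_cases hnQ : n ∈ Q
    · left; rw [commQ h hQ hs hnQ h.qQ]; group
    · right; rw [act_eq h hQ hN hs hn hnQ h.qQ, h.yq]
  have hgt : g * t * g⁻¹ = q ∨ g * t * g⁻¹ = p * q := by
    have h1 := hNq (g * g) hggN
    have h2 : g * g * q * (g * g)⁻¹ = g * t * g⁻¹ := by rw [ht]; group
    rwa [h2] at h1
  -- `p` is central
  have hgp : g * p * g⁻¹ = p := by
    have h1 : p = t * q * t⁻¹ * q⁻¹ := by rw [htq]; group
    have h2 : g * p * g⁻¹ = (g * t * g⁻¹) * t * (g * t * g⁻¹)⁻¹ * t⁻¹ := by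
      conv_lhs => rw [h1]
      rw [ht]; group
    have h3 : q * t * q⁻¹ * t⁻¹ = p := by
      rw [← hpi, h1]; group
    rw [h2]
    rcases hgt with h4 | h4
    · rw [h4, h3]
    · rw [h4]
      calc p * q * t * (p * q)⁻¹ * t⁻¹ = p * (q * t * q⁻¹ * (p⁻¹ * t⁻¹)) := by group
        _ = p * (q * t * q⁻¹ * (t⁻¹ * p⁻¹)) := by
            rw [show p⁻¹ * t⁻¹ = t⁻¹ * p⁻¹ by rw [← mul_inv_rev, ← mul_inv_rev, hpt]]
        _ = p * (q * t * q⁻¹ * t⁻¹) * p⁻¹ := by group
        _ = p := by rw [h3]; group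
  have cen : ∀ x : D, x * q = q * x → g * x * g⁻¹ = x → x ∈ center D := by
    intro x h1 h2
    have h3 : closure ({q, g} : Set D) ≤ centralizer {x} := by
      rw [closure_le]
      rintro z (rfl | hz)
      · rw [SetLike.mem_coe, mem_centralizer_singleton_iff]; exact h1.symm
      · rw [Set.mem_singleton_iff] at hz; subst hz
        rw [SetLike.mem_coe, mem_centralizer_singleton_iff]
        calc z * x = (z * x * z⁻¹) * z := by group
          _ = x * z := by rw [h2]
    rw [hgen] at h3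
    rw [mem_center_iff]
    intro z
    exact (mem_centralizer_singleton_iff.1 (h3 (mem_top z)))
  have hpc : p ∈ center D := cen p hpq hgp
  set K := closure ({q, t} : Set D) with hK
  have hqK : q ∈ K := subset_closure (by simp)
  have htK : t ∈ K := subset_closure (by simp)
  have hpK : p ∈ K := by
    have : p = t * q * t⁻¹ * q⁻¹ := by rw [htq]; group
    rw [this]
    exact K.mul_mem (K.mul_mem (K.mul_mem htK hqK) (K.inv_mem htK)) (K.inv_mem hqK)
  have h4 : g ^ 4 ∉ K := by
    rw [hK, ht]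
    refine pow_four_not_mem h64 hgen hs hqq hpc (by rw [← ht]; exact htq') ?_
    rw [← ht]
    change g * t * g⁻¹ ∈ K
    rcases hgt with h5 | h5 <;> rw [h5]
    · exact hqK
    · exact K.mul_mem hpK hqK
  -- `g² = k r`
  obtain ⟨k, r, hr, hgg, hk⟩ : ∃ k r, r ∈ R ∧ g * g = k * r ∧
      ∃ i : Fin 2, ∃ k' : D, k = t ^ (i : ℕ) * k' ∧ (k' = 1 ∨ k' = p ∨ k' = q ∨ k' = p * q) := by
    by_cases h5 : g * g ∈ Q
    · obtain ⟨r, hr, h6⟩ := h.cover _ h5
      rcases h6 with h6 | h6 | h6 | h6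
      · exact ⟨1, r, hr, by rw [one_mul]; exact h6, 0, 1, by simp, by simp⟩
      · exact ⟨p, r, hr, h6, 0, p, by simp, by simp⟩
      · exact ⟨q, r, hr, h6, 0, q, by simp, by simp⟩
      · exact ⟨p * q, r, hr, h6, 0, p * q, by simp, by simp⟩
    · have h7 : t * (g * g) ∈ Q := by
        rw [idxQ hQ hN htN hggN]; tauto
      have h8 : ∀ x, t * (g * g) = x → g * g = t * x := by
        intro x hx
        rw [← hx, ← mul_assoc t t, htt, one_mul]
      obtain ⟨r, hr, h6⟩ := h.cover _ h7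
      rcases h6 with h6 | h6 | h6 | h6
      · exact ⟨t, r, hr, h8 _ h6, 1, 1, by simp, by simp⟩
      · exact ⟨t * p, r, hr, by rw [h8 _ h6, mul_assoc], 1, p, by simp, by simp⟩
      · exact ⟨t * q, r, hr, by rw [h8 _ h6, mul_assoc], 1, q, by simp, by simp⟩
      · exact ⟨t * (p * q), r, hr, by rw [h8 _ h6, mul_assoc t], 1, p * q, by simp, by simp⟩
  have hkK : k ∈ K := by
    obtain ⟨i, k', rfl, hk'⟩ := hk
    refine K.mul_mem (K.pow_mem htK _) ?_
    rcases hk' with rfl | rfl | rfl | rfl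
    · exact one_mem _
    · exact hpK
    · exact hqK
    · exact K.mul_mem hpK hqK
  have hrW := hRW r hr
  have hKN : K ≤ normalizer (Q : Set D) := by
    rw [hK, closure_le]
    rintro z (rfl | hz)
    · exact hQN h.qQ
    · rw [Set.mem_singleton_iff] at hz; subst hz; exact htN
  have hkr : k * r = r * k := hWc r hrW k (hKN hkK)
  have hg4 : g ^ 4 = k * k * (r * r) := by
    calc g ^ 4 = (g * g) * (g * g) := by simp only [pow_succ, pow_zero, one_mul, mul_assoc]
      _ = k * (r * k) * r := by rw [hgg]; group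
      _ = _ := by rw [← hkr]; group
  -- g conj of r
  have hgrW : g * r * g⁻¹ ∈ W Q := hWN.conj_mem r hrW g
  have hgkr : (g * k * g⁻¹) * (g * r * g⁻¹) = k * r := by
    calc (g * k * g⁻¹) * (g * r * g⁻¹) = g * (k * r) * g⁻¹ := by group
      _ = g * (g * g) * g⁻¹ := by rw [hgg]
      _ = g * g := by group
      _ = _ := hgg
  have hgkK : g * k * g⁻¹ ∈ K := by
    have h5 : K ≤ K.comap (MulAut.conj g).toMonoidHom := by
      rw [hK, closure_le]
      rintro x (rfl | hx)
      · simpa [MulAut.conj_apply, ← ht] using htK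
      · rw [Set.mem_singleton_iff] at hx; rw [hx]
        have : g * t * g⁻¹ ∈ K := by
          rcases hgt with h5 | h5 <;> rw [h5]
          · exact hqK
          · exact K.mul_mem hpK hqK
        simpa [MulAut.conj_apply] using this
    simpa [MulAut.conj_apply] using h5 hkK
  -- K ∩ W = {1, p}
  have hKW : ∀ x ∈ K, x ∈ W Q → x = 1 ∨ x = p := by
    intro x hx hxW
    obtain ⟨i, j, l, rfl⟩ := mem_clo hs hqq htt hpq hpt htq' hx
    have hxQ := ((mem_W h h64 hQ hN hs).1 hxW).1
    have hpi' : p ^ (i : ℕ) ∈ W Q := pow_mem hpW _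
    rw [mul_assoc, (W Q).mul_mem_cancel_left hpi'] at hxW
    have hl : l = 0 := by
      by_contra hl
      have hl : l = 1 := by omega
      subst hl
      have h6 : q ^ (j : ℕ) ∈ Q := Q.pow_mem h.qQ _
      have h7 := ((mem_W h h64 hQ hN hs).1 hxW).1
      rw [Q.mul_mem_cancel_left h6] at h7
      exact htQ (by simpa using h7)
    subst hl
    have hj : j = 0 := by
      by_contra hj
      have hj : j = 1 := by omega
      subst hj
      exact hqW (by simpa using hxW)
    subst hj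
    have hi : i = 0 ∨ i = 1 := by omega
    rcases hi with rfl | rfl
    · left; simp
    · right; simp
  have h5 : (g * r * g⁻¹) * r⁻¹ ∈ K := by
    have : (g * r * g⁻¹) * r⁻¹ = (g * k * g⁻¹)⁻¹ * k := by
      have h6 : g * r * g⁻¹ = (g * k * g⁻¹)⁻¹ * (k * r) := by rw [← hgkr]; group
      rw [h6]; group
    rw [this]
    exact K.mul_mem (K.inv_mem hgkK) hkK
  rcases hKW _ h5 ((W Q).mul_mem hgrW ((W Q).inv_mem hrW)) with h6 | h6
  · -- r central
    have h7 : g * r * g⁻¹ = r := by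
      rw [mul_inv_eq_one] at h6; exact h6
    have h8 : r ∈ center D := cen r (h.qc r hr).symm h7
    have h9 := hG.centre r h8
    rw [hg4, h9, mul_one] at h4
    exact h4 (K.mul_mem hkK hkK)
  · have h7 : g * r * g⁻¹ = p * r := by
      rw [mul_inv_eq_iff_eq_mul] at h6; exact h6
    have h8 : g * k * g⁻¹ = p * k := by
      rw [h7] at hgkr
      have h9 : g * k * g⁻¹ * p = k := by
        apply mul_right_cancel (b := r)
        rw [mul_assoc]; exact hgkr
      have h10 : g * k * g⁻¹ = k * p := by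
        calc g * k * g⁻¹ = (g * k * g⁻¹) * (p * p) := by rw [hs, mul_one]
          _ = _ := by rw [← mul_assoc, h9]
      rw [h10]; exact mem_center_iff.1 hpc k
    have hpg : ∀ x : D, g * (p * x) * g⁻¹ = p * (g * x * g⁻¹) := by
      intro x
      calc g * (p * x) * g⁻¹ = (g * p * g⁻¹) * (g * x * g⁻¹) := by group
        _ = _ := by rw [hgp]
    have hpne : ∀ x : D, x ≠ p * x := by
      intro x hx
      apply hp1
      have : 1 * x = p * x := by rw [one_mul]; exact hx
      exact (mul_right_cancel this).symm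
    -- conj of t is conj of q by k
    have hgt2 : g * t * g⁻¹ = k * q * k⁻¹ := by
      have h2 : g * t * g⁻¹ = g * g * q * (g * g)⁻¹ := by rw [ht]; group
      rw [h2, hgg]
      calc k * r * q * (k * r)⁻¹ = k * (r * q) * r⁻¹ * k⁻¹ := by group
        _ = k * (q * r) * r⁻¹ * k⁻¹ := by rw [h.qc r hr]
        _ = _ := by group
    have hgtQ : g * t * g⁻¹ ∈ Q := by
      rcases hgt with h9 | h9 <;> rw [h9]
      · exact h.qQ
      · exact Q.mul_mem h.pQ h.qQ
    obtain ⟨i, k', rfl, hk'⟩ := hk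
    have hi : i = 0 ∨ i = 1 := by omega
    rcases hi with rfl | rfl
    · simp only [Fin.val_zero, pow_zero, one_mul] at h8
      rcases hk' with hk' | hk' | hk' | hk' <;> rw [hk'] at h8
      · exact hpne 1 (by rw [← h8]; group)
      · rw [hgp] at h8; exact hpne _ h8
      · exact htQ (by rw [← ht] at h8; rw [h8]; exact Q.mul_mem h.pQ h.qQ)
      · rw [hpg, ← ht] at h8
        have := mul_left_cancel h8
        exact htQ (by rw [this]; exact Q.mul_mem h.pQ h.qQ)
    · simp only [Fin.val_one, pow_one] at h8 hgt2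
      rcases hk' with hk' | hk' | hk' | hk' <;> rw [hk'] at h8 hgt2
      · rw [mul_one] at h8
        rw [h8] at hgtQ
        exact htQ ((Q.mul_mem_cancel_left h.pQ).1 hgtQ)
      · rw [← hpt, hpg] at h8
        have h9 := mul_left_cancel h8
        rw [h9] at hgtQ
        exact htQ ((Q.mul_mem_cancel_left h.pQ).1 hgtQ)
      · -- k = t q
        have h9 : g * t * g⁻¹ = p * q := by
          rw [hgt2, mul_inv_rev, ← htq]; group
        have h10 : g * (t * q) * g⁻¹ = t * q := by
          calc g * (t * q) * g⁻¹ = (g * t * g⁻¹) * (g * q * g⁻¹) := by group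
            _ = p * q * t := by rw [h9, ← ht]
            _ = t * q := by rw [htq', mul_assoc]
        rw [h10] at h8
        exact hpne _ h8
      · have h9 : g * t * g⁻¹ = p * q := by
          rw [hgt2, mul_inv_rev]
          calc t * (p * q) * q * ((p * q)⁻¹ * t⁻¹) = t * p * (q * p⁻¹) * t⁻¹ := by group
            _ = t * p * (p⁻¹ * q) * t⁻¹ := by rw [hpi, hpq]
            _ = t * q * t⁻¹ := by group
            _ = _ := htq
        have h10 : g * (t * (p * q)) * g⁻¹ = t * (p * q) := by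
          calc g * (t * (p * q)) * g⁻¹ = (g * t * g⁻¹) * (g * p * g⁻¹) * (g * q * g⁻¹) := by group
            _ = p * q * p * t := by rw [h9, hgp, ← ht]
            _ = p * (p * (q * t)) := by rw [mul_assoc p q p, ← hpq]; simp only [mul_assoc]
            _ = p * (t * q) := by rw [htq']
            _ = t * (p * q) := by rw [← mul_assoc, hpt, mul_assoc]
        rw [h10] at h8
        exact hpne _ h8

end

/-- **T5**. -/
theorem T5 {D : Type*} [Group D] [Finite D] (hG : Good D) {Q R : Subgroup D} {y p q : D}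
    (h : Str Q R y p q) (hQ : Nat.card Q = 16) (hN : Nat.card (normalizer (Q : Set D)) = 32)
    (hs : p * p = 1) : False := by
  have h2 : IsPGroup 2 D := IsPGroup.of_card (n := 6) (by rw [hG.card]; norm_num)
  obtain ⟨g, hg⟩ := for_T0 h hG.card hQ hN hs
  have hW : (W Q).Normal := W_normal hG.card hN
  obtain ⟨x, hx⟩ := Cfsg.Agent.H538.Two.T0 h2 hG.gen (W Q) (W_index h hG.card hQ hN hs) hg
  exact T5core h hG hQ hN hs hx

end Cfsg.Agent.H547.Two
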