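import Cfsg.Agent.H617.Two.Defs

/-!
# S4543, task T5, first part: index two facts and the subgroup `W = Z(N_D(Q))`
-/

set_option autoImplicit false
set_option linter.unusedSectionVars false

namespace Cfsg.Agent.H547.Two

open Subgroup Cfsg.Agent.H617.Two

section
variable {D : Type*} [Group D] [Finite D] {Q R : Subgroup D} {y p q : D}

/-- index two facts for `N = N_D(Q)` -/
theorem idxN (hG : Nat.card D = 64) (hN : Nat.card (normalizer (Q : Set D)) = 32) (a b : D) :
    a * b ∈ normalizer (Q : Set D) ↔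
      (a ∈ normalizer (Q : Set D) ↔ b ∈ normalizer (Q : Set D)) := by
  apply Subgroup.mul_mem_iff_of_index_two
  have h := Subgroup.card_mul_index (normalizer (Q : Set D))
  rw [hG, hN] at h
  omega

/-- index two facts for `Q` in `N` -/
theorem idxQ (hQ : Nat.card Q = 16) (hN : Nat.card (normalizer (Q : Set D)) = 32) {a b : D}
    (ha : a ∈ normalizer (Q : Set D)) (hb : b ∈ normalizer (Q : Set D)) :
    a * b ∈ Q ↔ (a ∈ Q ↔ b ∈ Q) := by
  have hle : Q ≤ normalizer (Q : Set D) := Subgroup.le_normalizer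
  have h := Subgroup.card_mul_index (Q.subgroupOf (normalizer (Q : Set D)))
  have h1 : Nat.card (Q.subgroupOf (normalizer (Q : Set D))) = Nat.card Q :=
    Nat.card_congr (Subgroup.subgroupOfEquivOfLe hle).toEquiv
  rw [h1, hQ, hN] at h
  have h2 : (Q.subgroupOf (normalizer (Q : Set D))).index = 2 := by omega
  have h3 := Subgroup.mul_mem_iff_of_index_two h2 (a := ⟨a, ha⟩) (b := ⟨b, hb⟩)
  simpa [Subgroup.mem_subgroupOf] using h3

/-- `|R|` divides 4 -/
theorem cardR (h : Str Q R y p q) (hQ : Nat.card Q = 16) : Nat.card R ∣ 4 := by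
  have h1 := Subgroup.card_mul_index (R.subgroupOf Q)
  have h2 : Nat.card (R.subgroupOf Q) = Nat.card R :=
    Nat.card_congr (Subgroup.subgroupOfEquivOfLe h.RQ).toEquiv
  rw [h2, hQ] at h1
  have hi1 : (R.subgroupOf Q).index ≠ 1 := by
    intro h0
    rw [Subgroup.index_eq_one] at h0
    have : (⟨p, h.pQ⟩ : Q) ∈ R.subgroupOf Q := by rw [h0]; trivial
    exact h.pR (by simpa [Subgroup.mem_subgroupOf] using this)
  have hi2 : (R.subgroupOf Q).index ≠ 2 := by
    intro h0
    have h3 := Subgroup.mul_mem_iff_of_index_two h0 (a := ⟨p, h.pQ⟩) (b := ⟨q, h.qQ⟩)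
    have h4 : p * q ∈ R ↔ (p ∈ R ↔ q ∈ R) := by simpa [Subgroup.mem_subgroupOf] using h3
    have := h.pR
    have := h.qR
    have := h.pqR
    tauto
  have hd : (R.subgroupOf Q).index ∣ 2 ^ 4 := ⟨Nat.card R, by rw [Nat.mul_comm]; exact h1.symm⟩
  obtain ⟨k, hk, hk'⟩ := (Nat.dvd_prime_pow Nat.prime_two).1 hd
  rw [hk'] at h1 hi1 hi2
  interval_cases k
  · exact absurd rfl hi1
  · exact absurd rfl hi2
  · exact ⟨1, by omega⟩
  · exact ⟨2, by omega⟩
  · exact ⟨4, by omega⟩

/-- a group whose order divides 4 is abelian -/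
theorem comm_of_card_dvd_four (h : Nat.card R ∣ 4) {a b : D} (ha : a ∈ R) (hb : b ∈ R) :
    a * b = b * a := by
  obtain ⟨k, hk, hk'⟩ := (Nat.dvd_prime_pow Nat.prime_two).1 (show Nat.card R ∣ 2 ^ 2 from h)
  have : ∀ a b : R, a * b = b * a := by
    interval_cases k
    · have : Subsingleton R := (Nat.card_eq_one_iff_unique.1 (by simpa using hk')).1
      intro a b
      exact Subsingleton.elim _ _
    · have : Fact (Nat.Prime 2) := ⟨Nat.prime_two⟩
      have : IsCyclic R := isCyclic_of_prime_card (p := 2) (by simpa using hk')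
      have h3 : IsMulCommutative R := IsCyclic.isMulCommutative
      exact fun a b => h3.is_comm.comm a b
    · have : Fact (Nat.Prime 2) := ⟨Nat.prime_two⟩
      have h3 : IsMulCommutative R :=
        IsPGroup.isMulCommutative_of_card_eq_prime_sq (p := 2) (by simpa using hk')
      exact fun a b => h3.is_comm.comm a b
  exact congrArg Subtype.val (this ⟨a, ha⟩ ⟨b, hb⟩)

/-- In the abelian case: elements of `Q` commute. -/
theorem commQ (h : Str Q R y p q) (hQ : Nat.card Q = 16) (hs : p * p = 1) {a b : D}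
    (ha : a ∈ Q) (hb : b ∈ Q) : a * b = b * a := by
  have hR := cardR h hQ
  have hpq : p * q = q * p := by have := h.comm; rwa [hs, one_mul] at this
  have key : ∀ x : D, (x = 1 ∨ x = p ∨ x = q ∨ x = p * q) → (∀ r ∈ R, x * r = r * x) ∧
      x * p = p * x ∧ x * q = q * x := by
    rintro x (rfl | rfl | rfl | rfl)
    · simp
    · exact ⟨h.pc, rfl, hpq⟩
    · exact ⟨h.qc, hpq.symm, rfl⟩
    · refine ⟨fun r hr => ?_, ?_, ?_⟩
      · rw [mul_assoc, h.qc r hr, ← mul_assoc, h.pc r hr, mul_assoc]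
      · rw [mul_assoc, ← hpq]
      · rw [mul_assoc, ← mul_assoc q, ← hpq, mul_assoc]
  have key2 : ∀ x ∈ Q, ∃ k r, r ∈ R ∧ x = k * r ∧ (k = 1 ∨ k = p ∨ k = q ∨ k = p * q) := by
    intro x hx
    obtain ⟨r, hr, h1⟩ := h.cover x hx
    rcases h1 with rfl | rfl | rfl | rfl
    · exact ⟨1, x, hr, by simp, by simp⟩
    · exact ⟨p, r, hr, rfl, by simp⟩
    · exact ⟨q, r, hr, rfl, by simp⟩
    · exact ⟨p * q, r, hr, rfl, by simp⟩
  obtain ⟨k, r, hr, rfl, hk⟩ := key2 a ha
  obtain ⟨k', r', hr', rfl, hk'⟩ := key2 b hb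
  obtain ⟨h1, h2, h3⟩ := key k hk
  obtain ⟨h1', h2', h3'⟩ := key k' hk'
  have hkk : k * k' = k' * k := by
    rcases hk' with rfl | rfl | rfl | rfl
    · simp
    · exact h2
    · exact h3
    · rw [← mul_assoc, h2, mul_assoc, h3, ← mul_assoc]
  have hrr : r * r' = r' * r := comm_of_card_dvd_four hR hr hr'
  calc k * r * (k' * r') = k * (r * k') * r' := by group
    _ = k * (k' * r) * r' := by rw [h1' r hr]
    _ = (k * k') * (r * r') := by group
    _ = (k' * k) * (r' * r) := by rw [hkk, hrr]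
    _ = k' * (k * r') * r := by group
    _ = k' * (r' * k) * r := by rw [h1 r' hr']
    _ = _ := by group

/-- elements of `Q` centralized by `y` lie in `R ∪ pR` -/
theorem mem_of_comm (h : Str Q R y p q) (hs : p * p = 1) {x : D} (hx : x ∈ Q)
    (hc : y * x * y⁻¹ = x) : x ∈ R ∨ p * x ∈ R := by
  have hpq : p * q = q * p := by have := h.comm; rwa [hs, one_mul] at this
  have hyp : y * p * y⁻¹ = p := by rw [h.yp, hs, one_mul]
  obtain ⟨r, hr, h1⟩ := h.cover x hx
  have hry := h.yR r hr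
  rcases h1 with rfl | rfl | rfl | rfl
  · exact Or.inl hr
  · right
    rw [← mul_assoc, hs, one_mul]; exact hr
  · exfalso
    have h2 : y * (q * r) * y⁻¹ = (y * q * y⁻¹) * (y * r * y⁻¹) := by group
    rw [h2, h.yq, hpq] at hc
    have h3 : p = r * (y * r * y⁻¹)⁻¹ := by
      have : p * (y * r * y⁻¹) = r := by
        apply mul_left_cancel (a := q)
        rw [← mul_assoc]; exact hc
      exact eq_mul_inv_of_mul_eq this
    exact h.pR (h3 ▸ R.mul_mem hr (R.inv_mem hry))
  · exfalso
    have h2 : y * (p * q * r) * y⁻¹ = (y * p * y⁻¹) * (y * q * y⁻¹) * (y * r * y⁻¹) := by group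
    rw [h2, h.yq, hyp] at hc
    have h3 : p = r * (y * r * y⁻¹)⁻¹ := by
      have : p * (y * r * y⁻¹) = r := by
        apply mul_left_cancel (a := p * q)
        rw [← hc, ← mul_assoc, mul_assoc p q p, ← hpq]
      exact eq_mul_inv_of_mul_eq this
    exact h.pR (h3 ▸ R.mul_mem hr (R.inv_mem hry))

/-- `q r ∉ R ∪ pR` -/
theorem not_mem_of (h : Str Q R y p q) (hs : p * p = 1) {x : D} (hx : x ∈ R ∨ p * x ∈ R) :
    ¬ (q * x ∈ R ∨ p * (q * x) ∈ R) := by
  have hpq : p * q = q * p := by have := h.comm; rwa [hs, one_mul] at this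
  rintro h2
  rcases hx with hx | hx <;> rcases h2 with h2 | h2
  · exact h.qR ((R.mul_mem_cancel_right hx).1 h2)
  · rw [← mul_assoc] at h2
    exact h.pqR ((R.mul_mem_cancel_right hx).1 h2)
  · have h3 : q * x = p * q * (p * x) := by
      calc q * x = (p * p) * q * x := by rw [hs, one_mul]
        _ = p * (p * q) * x := by group
        _ = p * (q * p) * x := by rw [hpq]
        _ = _ := by group
    rw [h3] at h2
    exact h.pqR ((R.mul_mem_cancel_right hx).1 h2)
  · have h3 : p * (q * x) = q * (p * x) := by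
      rw [← mul_assoc, hpq, mul_assoc]
    rw [h3] at h2
    exact h.qR ((R.mul_mem_cancel_right hx).1 h2)

end

end Cfsg.Agent.H547.Two
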